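import Cfsg.Agent.Mrg.Omega.NO3b.NoEmp
import Cfsg.Agent.Mrg.Omega.NO3b.K0.Main
import Cfsg.Agent.Mrg.Omega.NO3b.K0.Abs
import Cfsg.Agent.Mrg.Omega.NO3b.K0.FullOff
import Cfsg.Agent.Mrg.Omega.NO3b.FPB.Cen

-- merged: Cfsg.Agent.Mrg.Omega.NO3b.Alpha
section

/-!
# NotFF, case ALPHA: the end (helper1 #15791 (3), (4); helper510 #15927 END)

`Lines S J V` (`NoEmp.lean`): `J ≤ S` weakly closed, `N_G(J) ≤ N_G(V)`, `V` elementary abelian, not FF,
`Z = Ω₁(Z(S)) ≤ V ≤ O₂(C_G(Z))`. Suppose `C_G(Z) ≰ N_G(V)`.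

* `Fl S V F T` : `F` is maximal among the `1 ≠ F ≤ V` with `C_G(F) ≰ N_G(V)`, `T = C_S(F) ∈ Syl₂(C_G(F))`;
  `exists_fl`;
* `exists_par` : `X ≤ C_G(F)` minimal over `T` with `X ≰ N_G(V)`;
* `base` : all fields of `K0.Base V F T X (N_G(Q₀)) Q₀`, `Q₀ = C_S(V)`, if no nontrivial 2-subgroup is normalised
  by `N_G(Q₀)` and `X`;
* `local_or` : **the end**: some nontrivial 2-subgroup is normalised by `N_G(C_S(V))` and `X`, or
  `C_U(T) ≰ C(O²(X))`, `U = ⟨V^X⟩`.
-/

set_option autoImplicit false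

namespace Cfsg.Agent.Omega.NO3b.Alpha

open Subgroup Cfsg Cfsg.Agent.ZN Cfsg.Agent.ZN.ChoiceBase Cfsg.Agent.ZN.ChoiceSit
open Cfsg.Agent.Omega.NO3b.EZero Cfsg.Agent.Omega.NO3b.NoEmp Cfsg.Agent.Omega.NO3b.K0
open Cfsg.Agent.MinSimple.EmptyTI (syl_of_le)
open Cfsg.Agent.MinSimple.MinParabolic (IsMinPar)
open Cfsg.Agent.MinSimple.VModule (oddGen oddGen_le mem_oddGen le_normalizer_oddGen oddGen_le_of_sup)

universe u

variable {G : Type u} [Group G]

/-- `F` is maximal among the `1 ≠ F ≤ V` with `C_G(F) ≰ N_G(V)`, `T ≤ S` is a Sylow 2-subgroup of `C_G(F)`. -/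
structure Fl [Finite G] (S : Sylow 2 G) (V F T : Subgroup G) : Prop where
  ne : F ≠ ⊥
  le : F ≤ V
  nle : ¬ centralizer (F : Set G) ≤ normalizer (V : Set G)
  max : ∀ D : Subgroup G, F ≤ D → D ≤ V → ¬ centralizer (D : Set G) ≤ normalizer (V : Set G) → D = F
  T_le : T ≤ (S : Subgroup G)
  syl : Syl T (centralizer (F : Set G))

variable [Finite G] {S : Sylow 2 G} {J V F T X : Subgroup G}

section lines

variable (h : Lines S J V)
include h

omit h [Finite G] in
theorem zc_cent : (S : Subgroup G) ≤ centralizer (zc (S : Subgroup G) : Set G) := by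
  intro s hs
  rw [mem_centralizer_iff]
  exact fun z hz => ((ChoiceBase.mem_zc.1 hz).2.2 s hs).symm

theorem V_le_S : V ≤ (S : Subgroup G) := h.low.trans (o2_le_syl (syl_of_le zc_cent))

theorem V_le_Q0 : V ≤ (S : Subgroup G) ⊓ centralizer (V : Set G) := le_inf (V_le_S h) h.comm

theorem J_le_Q0 : J ≤ (S : Subgroup G) ⊓ centralizer (V : Set G) := le_inf h.JS h.JV

/-- a 2-group `T ≥ J` is normalised... : `N_G(T) ≤ N_G(J)` -/
theorem normalizer_le {T : Subgroup G} (hTS : T ≤ (S : Subgroup G)) (hJ : J ≤ T) :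
    normalizer (T : Set G) ≤ normalizer (J : Set G) := by
  intro t ht
  rw [mem_normalizer_iff_cj]
  refine h.wc t ?_
  have h1 := cj_mono t hJ
  rw [mem_normalizer_iff_cj.1 ht] at h1
  exact h1.trans hTS

theorem L0_le : normalizer (((S : Subgroup G) ⊓ centralizer (V : Set G) : Subgroup G) : Set G) ≤
    normalizer (V : Set G) := (normalizer_le h inf_le_left (J_le_Q0 h)).trans h.NJ

theorem S_le_L0 : (S : Subgroup G) ≤
    normalizer (((S : Subgroup G) ⊓ centralizer (V : Set G) : Subgroup G) : Set G) := by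
  intro s hs
  rw [mem_normalizer_iff_cj, cj_inf, cj_centralizer, mem_normalizer_iff_cj.1 (h.S_le hs)]
  congr 1
  exact cj_eq_of_mem_normalizer (Subgroup.le_normalizer hs)

/-- `C_S(V)` is a Sylow 2-subgroup of `C_G(V)` -/
theorem syl_Q0 : Syl ((S : Subgroup G) ⊓ centralizer (V : Set G)) (centralizer (V : Set G)) := by
  refine ⟨inf_le_right, isPGroup_Q0, fun Q hQ hp hle => ?_⟩
  have hQL : Q ≤ normalizer (V : Set G) := hQ.trans (centralizer_le_normalizer _)
  obtain ⟨T, hT, hQT⟩ := exists_syl hp hQL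
  obtain ⟨x, hx, hxT⟩ := syl_conj hT (syl_of_le h.S_le)
  have h1 : cj x Q ≤ (S : Subgroup G) ⊓ centralizer (V : Set G) := by
    refine le_inf ?_ ?_
    · rw [← hxT]; exact cj_mono x hQT
    · have h2 := cj_mono x hQ
      rwa [cj_centralizer, mem_normalizer_iff_cj.1 hx] at h2
  have h2 := card_le_of_le h1
  rw [card_cj] at h2
  exact (eq_of_le_of_card_ge hle h2).symm

theorem le_Q0 {R : Subgroup G} (hR : IsPGroup 2 R)
    (h1 : R ≤ normalizer (((S : Subgroup G) ⊓ centralizer (V : Set G) : Subgroup G) : Set G))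
    (h2 : R ≤ centralizer (V : Set G)) : R ≤ (S : Subgroup G) ⊓ centralizer (V : Set G) := by
  have h3 : IsPGroup 2 (((S : Subgroup G) ⊓ centralizer (V : Set G)) ⊔ R : Subgroup G) := by
    rw [sup_comm]
    exact hR.to_sup_of_normal_right' isPGroup_Q0 h1
  have h4 := (syl_Q0 h).2.2 _ (sup_le inf_le_right h2) h3 le_sup_left
  exact le_sup_right.trans h4.le

/-- **(2)** A line through `D ≤ V` is `V^c`, `c ∈ C_G(D)`. -/
theorem exists_c {D : Subgroup G} (hD : D ≤ V) {g : G} (hDg : D ≤ cj g V) :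
    ∃ c ∈ centralizer (D : Set G), cj c V = cj g V := by
  have h1 : cj 1 J ≤ centralizer (D : Set G) := by
    rw [cj_one]; exact h.JV.trans (centralizer_le hD)
  have h2 : cj g J ≤ centralizer (D : Set G) := (cj_cent h.JV).trans (centralizer_le hDg)
  obtain ⟨x, hx, hxg⟩ := h.exists_conj h1 h2
  rw [cj_one] at hxg
  exact ⟨x, hx, hxg⟩

theorem S_ne (hnz : ¬ centralizer (zc (S : Subgroup G) : Set G) ≤ normalizer (V : Set G)) :
    (S : Subgroup G) ≠ ⊥ := by
  intro h0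
  apply hnz
  have h1 : V = ⊥ := le_bot_iff.1 ((V_le_S h).trans h0.le)
  rw [h1]
  intro x _
  rw [mem_normalizer_iff_cj]
  exact Subgroup.map_bot _

/-- **`F` exists**, above a given `F₀`. -/
theorem exists_fl_of {F₀ : Subgroup G} (hne : F₀ ≠ ⊥) (hle : F₀ ≤ V)
    (hnz : ¬ centralizer (F₀ : Set G) ≤ normalizer (V : Set G)) :
    ∃ (F T : Subgroup G) (l : G), Fl S V F T ∧ l ∈ normalizer (V : Set G) ∧ F₀ ≤ cj l F := by
  obtain ⟨F, hF, hmax⟩ := Set.exists_max_image
    {F : Subgroup G | F₀ ≤ F ∧ F ≤ V ∧ ¬ centralizer (F : Set G) ≤ normalizer (V : Set G)}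
    (fun F => Nat.card F) (Set.toFinite _) ⟨F₀, le_rfl, hle, hnz⟩
  have hJ : J ≤ centralizer (F : Set G) := h.JV.trans (centralizer_le hF.2.1)
  obtain ⟨T, hT, hJT⟩ := exists_syl (S.isPGroup'.to_le h.JS) hJ
  obtain ⟨l, hTl, hlJ, hlV⟩ := h.exists_point hT.2.1 (a := 1) (by rw [cj_one]; exact hJT)
  rw [cj_one] at hlV
  have hl' : l ∈ normalizer (V : Set G) := mem_normalizer_iff_cj.2 hlV
  have hli : cj l⁻¹ V = V := mem_normalizer_iff_cj.1 (inv_mem hl')
  refine ⟨cj l⁻¹ F, cj l⁻¹ T, l, ⟨?_, ?_, ?_, ?_, ?_, ?_⟩, hl', ?_⟩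
  · intro h0
    apply hne
    have h1 := congrArg (cj l) h0
    rw [cj_cj_inv] at h1
    have h2 : F = ⊥ := h1.trans (Subgroup.map_bot _)
    exact le_bot_iff.1 (hF.1.trans h2.le)
  · have h1 := cj_mono l⁻¹ hF.2.1
    rwa [hli] at h1
  · intro h0
    apply hF.2.2
    have h1 := cj_mono l h0
    rw [cj_centralizer, cj_cj_inv] at h1
    refine h1.trans ?_
    have h2 := cj_norm (g := l) (le_refl (normalizer (V : Set G)))
    rwa [hlV] at h2
  · intro D hFD hD hn
    have h1 : F ≤ cj l D := by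
      have h2 := cj_mono l hFD
      rwa [cj_cj_inv] at h2
    have h2 : cj l D ≤ V := by
      have h3 := cj_mono l hD
      rwa [hlV] at h3
    have h3 : ¬ centralizer ((cj l D : Subgroup G) : Set G) ≤ normalizer (V : Set G) := by
      intro h0
      apply hn
      have h4 := cj_mono l⁻¹ h0
      rw [cj_centralizer, cj_inv_cj] at h4
      refine h4.trans ?_
      have h5 := cj_norm (g := l⁻¹) (le_refl (normalizer (V : Set G)))
      rwa [hli] at h5
    have h4 := eq_of_le_of_card_ge h1 (hmax (cj l D) ⟨hF.1.trans h1, h2, h3⟩)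
    rw [h4, cj_inv_cj]
  · rw [cj_le_iff, inv_inv]; exact hTl
  · have hC : centralizer ((cj l⁻¹ F : Subgroup G) : Set G) = cj l⁻¹ (centralizer (F : Set G)) :=
      (cj_centralizer _ _).symm
    rw [hC]
    refine ⟨cj_mono _ hT.1, isPGroup_cj _ hT.2.1, fun Q hQ hp hle => ?_⟩
    have h2 := hT.2.2 (cj l Q) (by
      rw [cj_le_iff]; exact hQ) (isPGroup_cj _ hp) (by
      have h3 := cj_mono l hle
      rwa [cj_cj_inv] at h3)
    rw [← h2, cj_inv_cj]
  · rw [cj_cj_inv]; exact hF.1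

/-- **`F` exists.** -/
theorem exists_fl (hnz : ¬ centralizer (zc (S : Subgroup G) : Set G) ≤ normalizer (V : Set G)) :
    ∃ F T, Fl S V F T := by
  obtain ⟨F, T, l, hf, -, -⟩ := exists_fl_of h
    (MinSimple.Basic.zc_ne_bot S.isPGroup' (S_ne h hnz)) h.ZV hnz
  exact ⟨F, T, hf⟩

/-- **`F ≥ Z` exists**: maximal among the `F ≤ V` which contain `Z = Ω₁(Z(S))` and have `C_G(F) ≰ N_G(V)`. -/
theorem exists_fl_zc (hnz : ¬ centralizer (zc (S : Subgroup G) : Set G) ≤ normalizer (V : Set G)) :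
    ∃ F T, Fl S V F T ∧ zc (S : Subgroup G) ≤ F := by
  obtain ⟨F, hF, hmax⟩ := Set.exists_max_image
    {F : Subgroup G | zc (S : Subgroup G) ≤ F ∧ F ≤ V ∧ ¬ centralizer (F : Set G) ≤ normalizer (V : Set G)}
    (fun F => Nat.card F) (Set.toFinite _) ⟨_, le_rfl, h.ZV, hnz⟩
  have hJ : J ≤ centralizer (F : Set G) := h.JV.trans (centralizer_le hF.2.1)
  obtain ⟨T, hT, hJT⟩ := exists_syl (S.isPGroup'.to_le h.JS) hJ
  have hTV : T ≤ normalizer (V : Set G) := by
    have h1 := h.le_norm_of hT.2.1 (a := 1) (by rw [cj_one]; exact hJT)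
    rwa [cj_one] at h1
  have hTZ : T ≤ centralizer (zc (S : Subgroup G) : Set G) := hT.1.trans (centralizer_le hF.1)
  obtain ⟨T₁, hT₁, hTT₁⟩ := exists_syl hT.2.1 (le_inf hTZ hTV)
  obtain ⟨c, hc, hcT⟩ := syl_conj hT₁ (syl_of_le (le_inf (zc_cent (S := S)) h.S_le))
  have hcV : cj c V = V := mem_normalizer_iff_cj.1 hc.2
  have hciV : cj c⁻¹ V = V := mem_normalizer_iff_cj.1 (inv_mem hc.2)
  have hcZ : cj c (zc (S : Subgroup G)) = zc (S : Subgroup G) :=
    cj_eq_of_mem_normalizer (centralizer_le_normalizer _ hc.1)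
  have hN : cj c (normalizer (V : Set G)) = normalizer (V : Set G) :=
    cj_eq_of_mem_normalizer (Subgroup.le_normalizer hc.2)
  have hZ : zc (S : Subgroup G) ≤ cj c F := by
    have h1 := cj_mono c hF.1
    rwa [hcZ] at h1
  refine ⟨cj c F, cj c T, ⟨?_, ?_, ?_, ?_, ?_, ?_⟩, hZ⟩
  · intro h0
    exact MinSimple.Basic.zc_ne_bot S.isPGroup' (S_ne h hnz) (le_bot_iff.1 (hZ.trans h0.le))
  · have h1 := cj_mono c hF.2.1
    rwa [hcV] at h1
  · intro h0
    apply hF.2.2
    rw [← cj_centralizer, ← hN] at h0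
    have h1 := cj_mono c⁻¹ h0
    rwa [cj_inv_cj, cj_inv_cj] at h1
  · intro D hFD hD hn
    have h1 : F ≤ cj c⁻¹ D := by
      have h2 := cj_mono c⁻¹ hFD
      rwa [cj_inv_cj] at h2
    have h2 : cj c⁻¹ D ≤ V := by
      have h3 := cj_mono c⁻¹ hD
      rwa [hciV] at h3
    have h3 : ¬ centralizer ((cj c⁻¹ D : Subgroup G) : Set G) ≤ normalizer (V : Set G) := by
      intro h0
      apply hn
      have h4 := cj_mono c h0
      rwa [cj_centralizer, cj_cj_inv, hN] at h4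
    have h4 := eq_of_le_of_card_ge h1 (hmax (cj c⁻¹ D) ⟨hF.1.trans h1, h2, h3⟩)
    rw [h4, cj_cj_inv]
  · refine (cj_mono c hTT₁).trans hcT.le
  · have hC : centralizer ((cj c F : Subgroup G) : Set G) = cj c (centralizer (F : Set G)) :=
      (cj_centralizer _ _).symm
    rw [hC]
    refine ⟨cj_mono _ hT.1, isPGroup_cj _ hT.2.1, fun Q hQ hp hle => ?_⟩
    have h2 := hT.2.2 (cj c⁻¹ Q) (by
      rw [cj_le_iff, inv_inv]; exact hQ) (isPGroup_cj _ hp) (by
      have h3 := cj_mono c⁻¹ hle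
      rwa [cj_inv_cj] at h3)
    rw [← h2, cj_cj_inv]

end lines

/-! ### `F`, `T`, `X` -/

namespace Fl

variable (f : Fl S V F T)
include f

theorem T_eq : (S : Subgroup G) ⊓ centralizer (F : Set G) = T :=
  f.syl.2.2 _ inf_le_right (S.isPGroup'.to_le inf_le_left) (le_inf f.T_le f.syl.1)

theorem ne_V : F ≠ V := by
  rintro rfl
  exact f.nle (centralizer_le_normalizer _)

theorem Q0_le : (S : Subgroup G) ⊓ centralizer (V : Set G) ≤ T := by
  rw [← f.T_eq]
  exact inf_le_inf_left _ (centralizer_le f.le)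

/-- the minimal parabolic -/
theorem exists_par : ∃ X, Par V F T X := by
  obtain ⟨X, hX, hmin⟩ := Set.exists_min_image {P : Subgroup G | T ≤ P ∧ P ≤ centralizer (F : Set G) ∧
      ¬ P ≤ normalizer (V : Set G)} (fun P => Nat.card P) (Set.toFinite _) ⟨_, f.syl.1, le_rfl, f.nle⟩
  refine ⟨X, hX.1, hX.2.1, hX.2.2, fun M hTM hMP hne => ?_⟩
  by_contra hcon
  exact hne (eq_of_le_of_card_ge hMP (hmin M ⟨hTM, hMP.trans hX.2.1, hcon⟩))

theorem sylX (p : Par V F T X) : Syl T X :=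
  ⟨p.T_le, f.syl.2.1, fun Q hQ hp hle => f.syl.2.2 Q (hQ.trans p.le) hp hle⟩

variable (h : Lines S J V)
include h

theorem isMinPar (p : Par V F T X) : IsMinPar T X := by
  refine ⟨p.T_le, fun h0 => p.nle ?_, X ⊓ normalizer (V : Set G), ?_, fun K hK hKP =>
    le_inf hKP.le (p.min K hK hKP.le hKP.ne)⟩
  · exact h0.trans ((normalizer_le h f.T_le ((J_le_Q0 h).trans f.Q0_le)).trans h.NJ)
  · exact lt_of_le_of_ne inf_le_left fun h1 => p.nle (inf_eq_left.1 h1)

/-- `V ∩ V^x = F` for `x ∈ C_G(F) - N_G(V)` -/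
theorem line {x : G} (hx : x ∈ centralizer (F : Set G)) (hxV : x ∉ normalizer (V : Set G)) :
    V ⊓ cj x V = F := by
  have hxF : cj x F = F := cj_eq_of_mem_normalizer (centralizer_le_normalizer _ hx)
  refine f.max _ (le_inf f.le ?_) inf_le_left fun hcon => ?_
  · have h1 := cj_mono x f.le
    rwa [hxF] at h1
  · obtain ⟨c, hc, hcx⟩ := exists_c h (D := V ⊓ cj x V) inf_le_left inf_le_right
    apply hxV
    rw [mem_normalizer_iff_cj, ← hcx]
    exact mem_normalizer_iff_cj.1 (hcon hc)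

/-- **all fields of `K0.Base`** -/
theorem base (p : Par V F T X)
    (hti : ∀ g : G, V ⊓ cj g V ≠ ⊥ → V ≤ centralizer ((cj g V : Subgroup G) : Set G))
    (hnl : ∀ R : Subgroup G, IsPGroup 2 R →
      normalizer (((S : Subgroup G) ⊓ centralizer (V : Set G) : Subgroup G) : Set G) ≤ normalizer (R : Set G) →
      X ≤ normalizer (R : Set G) → R = ⊥) :
    Base V F T X (normalizer (((S : Subgroup G) ⊓ centralizer (V : Set G) : Subgroup G) : Set G))
      ((S : Subgroup G) ⊓ centralizer (V : Set G)) where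
  sq := h.sq
  comm := h.comm
  nff := h.nff
  F_le := f.le
  F_ne := f.ne_V
  F_ne_bot := f.ne
  X_le := p.le
  syl := f.sylX p
  mp := f.isMinPar h p
  nle := p.nle
  T_le := f.T_le.trans (S_le_L0 h)
  L_le := L0_le h
  Q0_le := f.Q0_le
  L_Q0 := le_rfl
  Q0_cent := inf_le_right
  le_Q0 := fun _ hR h1 h2 => le_Q0 h hR h1 h2
  V_le := V_le_Q0 h
  line := fun _ hx hxV => f.line h (p.le hx) hxV
  ti := hti
  nonloc := hnl

/-- **ALPHA, the end**: for every choice of `X`, some nontrivial 2-subgroup is normalised by `N_G(C_S(V))` and `X`,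
or `C_U(T) ≰ C(O²(X))`, `U = ⟨V^X⟩`. -/
theorem local_or (hA : FFBr.AStmt.{u}) (p : Par V F T X)
    (hti : ∀ g : G, V ⊓ cj g V ≠ ⊥ → V ≤ centralizer ((cj g V : Subgroup G) : Set G)) :
    (∃ R : Subgroup G, R ≠ ⊥ ∧ IsPGroup 2 R ∧
      normalizer (((S : Subgroup G) ⊓ centralizer (V : Set G) : Subgroup G) : Set G) ≤ normalizer (R : Set G) ∧
      X ≤ normalizer (R : Set G)) ∨
    ¬ cl V X ⊓ centralizer (T : Set G) ≤ centralizer (oddGen X : Set G) := by
  by_contra hcon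
  push Not at hcon
  refine (f.base h p hti fun R hR h1 h2 => ?_).absurd (noOv hA (f.sylX p) (f.isMinPar h p))
    (fullOff hA (f.sylX p) (f.isMinPar h p)) hcon.2
  by_contra hne
  exact hcon.1 R hne hR h1 h2

end Fl

/-- **TI** in the form of `K0.Base` -/
theorem ti (hG : IsCharacteristicTwoType G) (h : Lines S J V) (g : G) (hg : V ⊓ cj g V ≠ ⊥) :
    V ≤ centralizer ((cj g V : Subgroup G) : Set G) := by
  have h1 := h.comm_of_inter (h.char2 hG) (a := 1) (b := g) (by rwa [cj_one])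
  rwa [cj_one] at h1

/-- **ALPHA, the end**, from `Lines` and characteristic 2 type; `F` is maximal and contains `Z = Ω₁(Z(S))`. -/
theorem local_or (hA : FFBr.AStmt.{u}) (hG : IsCharacteristicTwoType G) (h : Lines S J V)
    (hnz : ¬ centralizer (zc (S : Subgroup G) : Set G) ≤ normalizer (V : Set G)) :
    ∃ F T, Fl S V F T ∧ zc (S : Subgroup G) ≤ F ∧ (∃ X, Par V F T X) ∧ ∀ X, Par V F T X →
      (∃ R : Subgroup G, R ≠ ⊥ ∧ IsPGroup 2 R ∧
        normalizer (((S : Subgroup G) ⊓ centralizer (V : Set G) : Subgroup G) : Set G) ≤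
          normalizer (R : Set G) ∧ X ≤ normalizer (R : Set G)) ∨
      ¬ cl V X ⊓ centralizer (T : Set G) ≤ centralizer (oddGen X : Set G) := by
  obtain ⟨F, T, f, hZ⟩ := exists_fl_zc h hnz
  exact ⟨F, T, f, hZ, f.exists_par, fun X p => f.local_or h hA p fun g hg => ti hG h g hg⟩

end Cfsg.Agent.Omega.NO3b.Alpha

end

-- merged: Cfsg.Agent.Mrg.Omega.NO3b.AlphaEnd
section

/-!
# NotFF, case ALPHA: the end, without the fixed-point alternative

`Alpha.local_or` together with (CEN) (`FPB/Cen.lean`): if `Lines S J V` and `C_G(Z) ≰ N_G(V)`, `Z = Ω₁(Z(S))`,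
then for `F ≥ Z` maximal with `C_G(F) ≰ N_G(V)` and every minimal `X ≤ C_G(F)` over `T = C_S(F)` with `X ≰ N_G(V)`
some nontrivial 2-subgroup is normalised by `N_G(C_S(V))` and `X` (`exists_local`).

* `jj_le_cent` : `J(S)` centralises `V` (`V` is not FF); `V_le_zj` : `V ≤ Ω₁(Z(J(S)))`;
* `cl_inf_le` : `C_U(T) ≤ Ω₁(Z(T))`, `U = ⟨V^X⟩`;
* `fixed_le` : `C_U(T) ≤ C(O²(X))` or `J(S)` is normalised by `N_G(C_S(V))` and `X`.
-/

set_option autoImplicit false

namespace Cfsg.Agent.Omega.NO3b.AlphaEnd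

open Subgroup Cfsg Cfsg.Agent.ZN Cfsg.Agent.ZN.ChoiceBase Cfsg.Agent.ZN.ChoiceSit
open Cfsg.Agent.PLocal.ElemAbSup
open Cfsg.Agent.PLocal.ThompsonJ (isElementaryAbelian_iff isElementaryAbelian_mono)
open Cfsg.Agent.Omega.NO3b.EZero Cfsg.Agent.Omega.NO3b.NoEmp Cfsg.Agent.Omega.NO3b.K0
open Cfsg.Agent.Omega.NO3b.Alpha
open Cfsg.Agent.Omega.SQ1.Bau (mem_AA_of_comm elem_comm elem_sq card_sup_comm)
open Cfsg.Agent.MinSimple.EmptyTI (syl_of_le)
open Cfsg.Agent.MinSimple.VModule (oddGen)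

universe u

variable {G : Type u} [Group G] [Finite G] {S : Sylow 2 G} {J V F T X : Subgroup G}

section lines

variable (h : Lines S J V)
include h

theorem V_elem : IsElementaryAbelian 2 V := isElementaryAbelian_iff.2 ⟨h.mul_comm', h.sq⟩

/-- `A ∈ A(S)` centralises `V` (Thompson's inequality). -/
theorem AA_cent {A : Subgroup G} (hA : A ∈ AA (S : Subgroup G)) : A ≤ centralizer (V : Set G) := by
  by_contra hne
  have h2 : IsPGroup 2 A := S.isPGroup'.to_le hA.2.1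
  have hlt := h.nff A h2 (hA.2.1.trans h.S_le) (fun a ha => by
      rw [elem_sq hA.1 a ha]; exact one_mem _) (fun a ha b hb => by
      have e : a * b * a⁻¹ * b⁻¹ = 1 := by rw [elem_comm hA.1 a ha b hb]; group
      rw [e]; exact one_mem _) hne
  set C := A ⊓ centralizer (V : Set G) with hC
  have hVS := V_le_S h
  have hc : ∀ a ∈ C, ∀ v ∈ V, a * v = v * a := fun a ha v hv =>
    (mem_centralizer_iff.1 (mem_inf.1 ha).2 v hv).symm
  have h1 : IsElementaryAbelian 2 (C ⊔ V : Subgroup G) :=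
    isElementaryAbelian_sup (isElementaryAbelian_mono hA.1 inf_le_left) (V_elem h)
      fun v hv => mem_centralizer_iff.2 fun a ha => hc a ha v hv
  have h3 := hA.2.2 _ h1 (sup_le (inf_le_left.trans hA.2.1) hVS)
  have h4 := card_sup_comm hc
  have h5 : Nat.card ↥(C ⊓ V) ≤ Nat.card ↥(V ⊓ centralizer (A : Set G)) := by
    refine Subgroup.card_le_of_le ?_
    rintro x ⟨hx1, hx2⟩
    exact ⟨hx2, mem_centralizer_iff.2 fun a ha => elem_comm hA.1 a ha x (mem_inf.1 hx1).1⟩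
  have h6 : Nat.card V * Nat.card C ≤ Nat.card A * Nat.card ↥(V ⊓ centralizer (A : Set G)) := by
    calc Nat.card V * Nat.card C = Nat.card ↥(C ⊔ V) * Nat.card ↥(C ⊓ V) := by rw [h4]; ring
      _ ≤ _ := Nat.mul_le_mul h3 h5
  have key : ∀ K L : Subgroup G, Nat.card ↥(K ⊓ L) * L.relIndex K = Nat.card K := by
    intro K L
    rw [← inf_relIndex_left K L]
    have h7 : Nat.card ↥((K ⊓ L).subgroupOf K) = Nat.card ↥(K ⊓ L) :=
      Nat.card_congr (subgroupOfEquivOfLe inf_le_left).toEquiv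
    rw [← h7]
    exact Subgroup.card_mul_index _
  have e1 : Nat.card C * (centralizer (V : Set G)).relIndex A = Nat.card A := key _ _
  have e2 : Nat.card ↥(V ⊓ centralizer (A : Set G)) * (centralizer (A : Set G)).relIndex V =
      Nat.card V := key _ _
  have p1 : 0 < Nat.card C := Nat.card_pos
  have p2 : 0 < Nat.card ↥(V ⊓ centralizer (A : Set G)) := Nat.card_pos
  set a := (centralizer (V : Set G)).relIndex A
  set b := (centralizer (A : Set G)).relIndex V
  set cC := Nat.card C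
  set cI := Nat.card ↥(V ⊓ centralizer (A : Set G))
  rw [← e1, ← e2] at h6
  have h7 : b ≤ a := by
    refine Nat.le_of_mul_le_mul_left ?_ (Nat.mul_pos p1 p2)
    calc cC * cI * b = cI * b * cC := by ring
      _ ≤ cC * a * cI := h6
      _ = cC * cI * a := by ring
  exact absurd hlt (not_lt.2 h7)

/-- **`J(S)` centralises `V`.** -/
theorem jj_le_cent : jj (S : Subgroup G) ≤ centralizer (V : Set G) := by
  rw [jj_eq]
  exact sSup_le fun A hA => AA_cent h hA

/-- **`V ≤ Ω₁(Z(J(S)))`** -/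
theorem V_le_zj : V ≤ zj (S : Subgroup G) := by
  intro v hv
  have hvS := V_le_S h hv
  have hc : ∀ y ∈ jj (S : Subgroup G), y * v = v * y := fun y hy =>
    (mem_centralizer_iff.1 (jj_le_cent h hy) v hv).symm
  obtain ⟨A, hA⟩ := AA_nonempty (S : Subgroup G)
  refine ChoiceBase.mem_zj.2 ⟨le_jj hA (mem_AA_of_comm hA hvS (h.sq v hv) fun a ha => hc a (le_jj hA ha)),
    h.sq v hv, hc⟩

end lines

section fl

variable (f : Fl S V F T) (h : Lines S J V)
include f h

theorem bau_le_T : bau (S : Subgroup G) ≤ T := by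
  rw [← f.T_eq]
  intro b hb
  obtain ⟨h1, h2⟩ := mem_bau.1 hb
  exact ⟨h1, mem_centralizer_iff.2 fun y hy => h2 y (V_le_zj h (f.le hy))⟩

/-- `C_X(O₂(X)) ≤ O₂(X)` -/
theorem char2_X (hG : IsCharacteristicTwoType G) (p : Par V F T X) :
    X ⊓ centralizer (o2 X : Set G) ≤ o2 X := by
  have hc := h.char2 hG F f.le f.ne
  set C := centralizer (F : Set G) with hC
  have h1 : o2 C ≤ o2 X := by
    have h2 : o2 C ≤ X := (o2_le_syl f.syl).trans p.T_le
    exact ZN.le_o2 h2 (ZN.isPGroup_o2 C) (p.le.trans (ZN.le_normalizer_o2 C))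
  intro x hx
  obtain ⟨hxX, hxc⟩ := mem_inf.1 hx
  have h3 : x ∈ o2 C := hc ⟨p.le hxX, centralizer_le h1 hxc⟩
  exact h1 h3

/-- `U = ⟨V^X⟩` is elementary abelian. -/
theorem U_elem (hG : IsCharacteristicTwoType G) (p : Par V F T X) : IsElementaryAbelian 2 (cl V X) := by
  have hcc : ∀ x ∈ X, ∀ y ∈ X, cj x V ≤ centralizer ((cj y V : Subgroup G) : Set G) := by
    intro x hx y hy
    refine h.comm_of_inter (h.char2 hG) fun h0 => f.ne ?_
    have hF : ∀ x ∈ X, F ≤ cj x V := fun x hx => by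
      have h1 := cj_mono x f.le
      rwa [cj_eq_of_mem_normalizer (centralizer_le_normalizer _ (p.le hx))] at h1
    exact le_bot_iff.1 (h0 ▸ le_inf (hF x hx) (hF y hy))
  have hUc : cl V X ≤ centralizer ((cl V X : Subgroup G) : Set G) := by
    refine cl_le fun x hx => ?_
    rw [le_centralizer_iff]
    refine cl_le fun y hy => ?_
    exact hcc y hy x hx
  have hcomm : ∀ a ∈ cl V X, ∀ b ∈ cl V X, a * b = b * a := fun a ha b hb =>
    (mem_centralizer_iff.1 (hUc ha) b hb).symm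
  let K : Subgroup G :=
    { carrier := {x | x ∈ cl V X ∧ x ^ 2 = 1}
      mul_mem' := by
        rintro a b ⟨ha, ha2⟩ ⟨hb, hb2⟩
        refine ⟨mul_mem ha hb, ?_⟩
        rw [(show Commute a b from hcomm a ha b hb).mul_pow, ha2, hb2, one_mul]
      one_mem' := ⟨one_mem _, one_pow 2⟩
      inv_mem' := by
        rintro a ⟨ha, ha2⟩
        exact ⟨inv_mem ha, by rw [inv_pow, ha2, inv_one]⟩ }
  have hK : cl V X ≤ K := by
    refine cl_le fun x hx => ?_
    intro v hv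
    exact ⟨cj_le_cl hx hv, h.cj_sq x v hv⟩
  exact isElementaryAbelian_iff.2 ⟨hcomm, fun x hx => (hK hx).2⟩

theorem U_le_T (hG : IsCharacteristicTwoType G) (p : Par V F T X) : cl V X ≤ T := by
  have hVX : V ≤ X := ((V_le_Q0 h).trans f.Q0_le).trans p.T_le
  have hUX : cl V X ≤ X := cl_le fun x hx => by
    have h1 := cj_mono x hVX
    rwa [cj_eq_of_mem_normalizer (Subgroup.le_normalizer hx)] at h1
  have hn : X ≤ normalizer ((cl V X : Subgroup G) : Set G) := fun x hx =>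
    mem_normalizer_iff_cj.2 (cj_cl hx)
  have h2 : IsPGroup 2 (cl V X) := pgroup_of_sq fun x hx => elem_sq (U_elem f h hG p) x hx
  exact (ZN.le_o2 hUX h2 hn).trans (o2_le_syl (f.sylX p))

/-- `C_U(T) ≤ Ω₁(Z(T))` -/
theorem cl_inf_le (hG : IsCharacteristicTwoType G) (p : Par V F T X) :
    cl V X ⊓ centralizer (T : Set G) ≤ zc T := by
  rintro x ⟨hx, hxc⟩
  exact ChoiceBase.mem_zc.2 ⟨U_le_T f h hG p hx, elem_sq (U_elem f h hG p) x hx,
    fun t ht => mem_centralizer_iff.1 hxc t ht⟩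

/-- If `J(S) ≤ O₂(X)`, then `J(S)` is normalised by `N_G(C_S(V))` and `X`. -/
theorem local_of_jj (hne : (S : Subgroup G) ≠ ⊥) (hJ : jj (S : Subgroup G) ≤ o2 X) (p : Par V F T X) :
    ∃ R : Subgroup G, R ≠ ⊥ ∧ IsPGroup 2 R ∧
      normalizer (((S : Subgroup G) ⊓ centralizer (V : Set G) : Subgroup G) : Set G) ≤
        normalizer (R : Set G) ∧ X ≤ normalizer (R : Set G) := by
  refine ⟨jj (S : Subgroup G), ?_, S.isPGroup'.to_le (ZN.jj_le _), ?_, ?_⟩
  · intro h0
    have h1 := MinSimple.Basic.zc_ne_bot S.isPGroup' hne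
    apply h1
    have h2 := (h.ZV.trans (V_le_zj h))
    exact le_bot_iff.1 ((h2.trans fun x hx => (ChoiceBase.mem_zj.1 hx).1).trans h0.le)
  · have h1 : jj (S : Subgroup G) ≤ (S : Subgroup G) ⊓ centralizer (V : Set G) :=
      le_inf (ZN.jj_le _) (jj_le_cent h)
    rw [← jj_eq_of_jj_le h1 inf_le_left]
    exact normalizer_le_of_cj (F := fun K => jj K) jj_cj _
  · have h1 : o2 X ≤ (S : Subgroup G) := (o2_le_syl (f.sylX p)).trans f.T_le
    rw [← jj_eq_of_jj_le hJ h1]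
    exact (ZN.le_normalizer_o2 X).trans (normalizer_le_of_cj (F := fun K => jj K) jj_cj _)

/-- **(CEN) in case ALPHA.** -/
theorem fixed_le (hFF : FFThm.Stmt.{u}) (hG : IsCharacteristicTwoType G)
    (hZF : zc (S : Subgroup G) ≤ F) (p : Par V F T X) (hJ : ¬ jj (S : Subgroup G) ≤ o2 X) :
    cl V X ⊓ centralizer (T : Set G) ≤ centralizer (oddGen X : Set G) :=
  (cl_inf_le f h hG p).trans (FPB.Cen.cen_zc hFF hG S (bau_le_T f h) (f.sylX p) (f.isMinPar h p)
    (char2_X f h hG p) (p.le.trans (centralizer_le hZF)) hJ)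

/-- **ALPHA, the end** for a given `X`. -/
theorem exists_loc (hA : FFBr.AStmt.{u}) (hFF : FFThm.Stmt.{u}) (hG : IsCharacteristicTwoType G)
    (hZF : zc (S : Subgroup G) ≤ F) (p : Par V F T X) :
    ∃ R : Subgroup G, R ≠ ⊥ ∧ IsPGroup 2 R ∧
      normalizer (((S : Subgroup G) ⊓ centralizer (V : Set G) : Subgroup G) : Set G) ≤
        normalizer (R : Set G) ∧ X ≤ normalizer (R : Set G) := by
  by_cases hJ : jj (S : Subgroup G) ≤ o2 X
  · refine local_of_jj f h (fun h0 => f.nle ?_) hJ p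
    have h1 : V = ⊥ := le_bot_iff.1 ((V_le_S h).trans h0.le)
    rw [h1]
    intro x _
    rw [mem_normalizer_iff_cj]
    exact Subgroup.map_bot _
  · exact (f.local_or h hA p fun g hg => Alpha.ti hG h g hg).resolve_right
      fun hcon => hcon (fixed_le f h hFF hG hZF p hJ)

end fl

/-- **ALPHA, the end**: if `C_G(Z) ≰ N_G(V)`, then for `F ≥ Z` maximal in `V` with `C_G(F) ≰ N_G(V)` and every
minimal `X ≤ C_G(F)` over `T = C_S(F)` with `X ≰ N_G(V)`, `⟨N_G(C_S(V)), X⟩` is 2-local. -/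
theorem exists_local (hA : FFBr.AStmt.{u}) (hFF : FFThm.Stmt.{u}) (hG : IsCharacteristicTwoType G)
    (h : Lines S J V)
    (hnz : ¬ centralizer (zc (S : Subgroup G) : Set G) ≤ normalizer (V : Set G)) :
    ∃ F T, Fl S V F T ∧ zc (S : Subgroup G) ≤ F ∧ (∃ X, Par V F T X) ∧ ∀ X, Par V F T X →
      ∃ R : Subgroup G, R ≠ ⊥ ∧ IsPGroup 2 R ∧
        normalizer (((S : Subgroup G) ⊓ centralizer (V : Set G) : Subgroup G) : Set G) ≤
          normalizer (R : Set G) ∧ X ≤ normalizer (R : Set G) := by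
  obtain ⟨F, T, f, hZ⟩ := exists_fl_zc h hnz
  exact ⟨F, T, f, hZ, f.exists_par, fun X p => exists_loc f h hA hFF hG hZ p⟩

end Cfsg.Agent.Omega.NO3b.AlphaEnd

end
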